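import Cfsg.Agent.H810.S8.FiAll
import Cfsg.Agent.H26.Ore.Fi24Deg
import Cfsg.Agent.H343.LD.RowFi23
import Cfsg.Agent.H593.LD.InvFi24
import Cfsg.Agent.H30.GraphFi24A

/-!
# S4908, SOLV for `Fi₂₄'` (helper810)

Known degrees 57477 (helper30) and 197813862400 (helper593, helper343), residues at 29, 23, 17 (helper161).
-/

set_option autoImplicit false

namespace Cfsg.Agent.H810.S8.FiT

open Cfsg Cfsg.Agent.H681.DegBasic Cfsg.Agent.H651.Two

universe u

theorem has : ∀ d ∈ cd, d.Has Spor.Fi24' := by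
  intro d hd
  simp only [cd, List.mem_cons, List.not_mem_nil, or_false] at hd
  rcases hd with rfl | rfl | rfl
  · obtain ⟨x, hx, hc⟩ := H161.Rec.FiTF.cent29
    exact ⟨by norm_num, x, hx, hc⟩
  · obtain ⟨x, hx, hc⟩ := H161.Rec.FiTF.cent23
    exact ⟨by norm_num, x, hx, hc⟩
  · obtain ⟨x, hx, hc⟩ := H161.Rec.FiTF.cent17
    exact ⟨by norm_num, x, hx, hc⟩

theorem noDeg : H511.Ore.NoDeg Spor.Fi24' ex := by
  intro χ hχ
  have h1 : charDegree (χ : Spor.Fi24' → ℂ) = 392 := by simpa [ex] using hχ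
  have hne : (χ : Spor.Fi24' → ℂ) ≠ 1 := by
    intro h
    rw [h, H850.Cod.charDegree_one] at h1
    omega
  have h2 := H26.Ore.Fi24Deg.hDX χ hne (by rw [h1]; decide)
  omega

theorem index_le : (MulAut.conj : Spor.Fi24' →* MulAut Spor.Fi24').range.index ≤ 2 :=
  Nat.le_of_dvd (by norm_num) Cfsg.Agent.KFacts.FiTF.out

theorem mem_57477 : 57477 ∈ charDegrees Spor.Fi24' := H30.GraphFi24.exists_deg.1

theorem mem_197813862400 : 197813862400 ∈ charDegrees Spor.Fi24' := by
  obtain ⟨χ, h, -⟩ := H593.LD.InvFi24.exists_inv_deg_b H343.LD.exists_Q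
  exact ⟨χ, h⟩

/-- **SOLV for `Fi₂₄'` and `Fi₂₄`.** -/
theorem solv (D : Set ℕ) (hD : H704.S8.Deg 2 Spor.Fi24' D) : H704.S8.Solv.{u} D := by
  intro G _ _ hs hG
  have hfin : Finite Spor.Fi24' := Cfsg.Agent.H48.OreFi.finite'
  have hsim := H26.Ore.Fi24Deg.simple_F'
  refine solv_two (X := Spor.Fi24') H26.Ore.Fi24Deg.not_comm index_le 1255205709190661721292800 H26.Ore.Fi24Deg.card_F'
    (by norm_num) fac fac_prime fac_prod (by norm_num) cd ok has noDeg (W := W) ?_ ?_ mem_57477 (by norm_num) chk D hD hs hG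
  · intro l hl
    simp only [W, List.mem_cons, List.not_mem_nil, or_false] at hl
    rcases hl with rfl | rfl
    · exact ⟨_, mem_197813862400, ⟨_, List.mem_cons_self, rfl⟩, ⟨_, List.mem_cons_of_mem _ List.mem_cons_self, by norm_num⟩⟩
    · exact ⟨_, mem_57477, ⟨_, List.mem_cons_self, rfl⟩, ⟨_, List.mem_cons_of_mem _ List.mem_cons_self, by norm_num⟩⟩
  · intro l hl w hw
    simp only [W, List.mem_cons, List.not_mem_nil, or_false] at hl
    rcases hl with rfl | rfl
    · simp only [List.mem_cons, List.not_mem_nil, or_false] at hw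
      rcases hw with rfl | rfl
      exacts [mem0, mem1]
    · simp only [List.mem_cons, List.not_mem_nil, or_false] at hw
      rcases hw with rfl | rfl
      exacts [mem2, mem3]

end Cfsg.Agent.H810.S8.FiT
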