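import Cfsg.Agent.H810.S8.Eng

/-!
# S4908, SOLV: the numerical check for Ly (helper810)
-/

set_option autoImplicit false
set_option maxRecDepth 1000000

namespace Cfsg.Agent.H810.S8.Ly

open Cfsg.Agent.H511.Ore Cfsg.Agent.H653.Sieve Cfsg.Agent.H651.Two

def cd : List CD :=
  [⟨67, 1, 22, 3, [(0, 0), (1, 3), (22, -1), (45, 1), (66, -3)], 3, true⟩,
   ⟨37, 1, 18, 2, [(0, 0), (1, 2), (18, -1), (19, 1), (36, -2)], 2, true⟩,
   ⟨31, 1, 6, 5, [(0, 0), (1, 5), (6, -1), (25, 1), (30, -5)], 5, true⟩,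
   ⟨11, 6, 5, 2, [(0, 0), (1, 2), (2, 4), (5, -1), (5, 10), (6, -10), (6, 1), (9, -4), (10, -2)], 0, false⟩]

def fac : List (ℕ × ℕ) := [(67, 1), (37, 1), (31, 1), (11, 1), (7, 1), (5, 6), (3, 7), (2, 8)]

/-- the divisors of 3028266 -/
def l0 : List ℕ := [1, 2, 3, 6, 9, 18, 27, 31, 54, 62, 67, 81, 93, 134, 162, 186, 201, 243, 279, 402, 486, 558, 603, 729, 837, 1206, 1458, 1674, 1809, 2077, 2511, 3618, 4154, 5022, 5427, 6231, 7533, 10854, 12462, 15066, 16281, 18693, 22599, 32562, 37386, 45198, 48843, 56079, 97686, 112158, 168237, 336474, 504711, 1009422, 1514133, 3028266]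

theorem mem0 : ∀ t, t ∣ 3028266 → t ∈ l0 := by
  refine mem_of_dvd_of_chk (L := [(67, 1), (31, 1), (3, 6), (2, 1)]) ?_ ?_ ?_
  · simp only [List.all_cons, List.all_nil, Bool.and_true]; norm_num
  · decide +kernel
  · decide +kernel

/-- the divisors of 1534500 -/
def l1 : List ℕ := [1, 2, 3, 4, 5, 6, 9, 10, 11, 12, 15, 18, 20, 22, 25, 30, 31, 33, 36, 44, 45, 50, 55, 60, 62, 66, 75, 90, 93, 99, 100, 110, 124, 125, 132, 150, 155, 165, 180, 186, 198, 220, 225, 250, 275, 279, 300, 310, 330, 341, 372, 375, 396, 450, 465, 495, 500, 550, 558, 620, 660, 682, 750, 775, 825, 900, 930, 990, 1023, 1100, 1116, 1125, 1364, 1375, 1395, 1500, 1550, 1650, 1705, 1860, 1980, 2046, 2250, 2325, 2475, 2750, 2790, 3069, 3100, 3300, 3410, 3875, 4092, 4125, 4500, 4650, 4950, 5115, 5500, 5580, 6138, 6820, 6975, 7750, 8250, 8525, 9300, 9900, 10230, 11625, 12276, 12375, 13950, 15345, 15500, 16500, 17050, 20460, 23250, 24750, 25575, 27900, 30690, 34100, 34875,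 42625, 46500, 49500, 51150, 61380, 69750, 76725, 85250, 102300, 127875, 139500, 153450, 170500, 255750, 306900, 383625, 511500, 767250, 1534500]

theorem mem1 : ∀ t, t ∣ 1534500 → t ∈ l1 := by
  refine mem_of_dvd_of_chk (L := [(31, 1), (11, 1), (5, 3), (3, 2), (2, 2)]) ?_ ?_ ?_
  · simp only [List.all_cons, List.all_nil, Bool.and_true]; norm_num
  · decide +kernel
  · decide +kernel

def W : List (ℕ × List ℕ) := [(3028266, l0), (1534500, l1)]

theorem chk : allDiv 51765179004000000 (tstB 51765179004000000 [] cd (fac.map Prod.fst) W) fac 1 = true := by decide +kernel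

end Cfsg.Agent.H810.S8.Ly
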