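import Cfsg.Agent.S0000
import Cfsg.Agent.H810.S8.LyChk
import Cfsg.Agent.H511.Ore.RowLy
import Cfsg.Agent.H314.LyOrb.Deg

/-!
# S4908, SOLV for the Lyons group (helper810)

Known degrees 1534500, 3028266 (helper314), residues at 67, 37, 31, 11 (helper511).
-/

set_option autoImplicit false

namespace Cfsg.Agent.H810.S8.Ly

open Cfsg Cfsg.Agent.H681.DegBasic

universe u

theorem mem_1534500 : 1534500 ∈ charDegrees Spor.Ly := by
  obtain ⟨χ, -, h⟩ := H314.LyOrb.exists_deg_ly
  exact ⟨χ 2, h 2⟩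

theorem mem_3028266 : 3028266 ∈ charDegrees Spor.Ly := by
  obtain ⟨χ, -, h⟩ := H314.LyOrb.exists_deg_ly
  exact ⟨χ 3, h 3⟩

/-- **No solvable group has the character degrees of the Lyons group.** -/
theorem solv' : H704.S8.Solv.{u} (charDegrees Spor.Ly) := by
  intro G _ _ hs hG
  have hK : Cfsg.Agent.H995.CopEngine.AllKnown.{0} := fun _ _ _ _ => Cfsg.Agent.S0000.result
  have := Cfsg.Agent.Ly.Setup.finite_ly
  have := Cfsg.Agent.Ly.Setup.isSimple_ly
  refine solv_of_cd (X := Spor.Ly) H511.Ore.Ly.nonab 51765179004000000 Cfsg.Agent.Ly.Setup.card_ly (by norm_num) fac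
    H511.Ore.Ly.chk2 H511.Ore.Ly.chk3 cd H511.Ore.Ly.chk1 (H511.Ore.Ly.has hK) (ex := []) H511.Ore.noDeg_nil (W := W) ?_ ?_
    mem_1534500 (by norm_num) chk hs hG
  · intro w hw
    simp only [W, List.mem_cons, List.not_mem_nil, or_false] at hw
    rcases hw with rfl | rfl
    exacts [mem_3028266, mem_1534500]
  · intro w hw
    simp only [W, List.mem_cons, List.not_mem_nil, or_false] at hw
    rcases hw with rfl | rfl
    exacts [mem0, mem1]

/-- **SOLV for the Lyons group.** -/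
theorem solv (D : Set ℕ) (h : H704.S8.Deg 1 Spor.Ly D) : H704.S8.Solv.{u} D := by
  rcases h with h | ⟨h, -⟩
  · rw [h]
    exact fun hs hG => solv' hs hG
  · omega

end Cfsg.Agent.H810.S8.Ly
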