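import Cfsg.Agent.H810.S8.ThChk
import Cfsg.Agent.H174.Ore.DegTh
import Cfsg.Agent.H492.ThRat
import Cfsg.Agent.H492.FactsTh

/-!
# S4908, SOLV for the Thompson group (helper810)

Known degrees 4123, 4881384, 28861000 (helper492), residues at 31, 19, 13 (helper174).
-/

set_option autoImplicit false

namespace Cfsg.Agent.H810.S8.Th

open Cfsg Cfsg.Agent.H681.DegBasic

universe u

theorem mem_4123 : 4123 ∈ charDegrees Spor.Th := by
  obtain ⟨χ, h, -⟩ := H492.ThRat.val_4123
  exact mem_charDegrees.2 ⟨χ, χ.2, h⟩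

theorem mem_4881384 : 4881384 ∈ charDegrees Spor.Th := by
  obtain ⟨χ, h⟩ := H492.FactsTh.exists_4881384
  exact mem_charDegrees.2 ⟨χ, χ.2, h⟩

theorem mem_28861000 : 28861000 ∈ charDegrees Spor.Th := by
  obtain ⟨χ, h⟩ := H492.FactsTh.exists_28861000
  exact mem_charDegrees.2 ⟨χ, χ.2, h⟩

/-- **No solvable group has the character degrees of the Thompson group.** -/
theorem solv' : H704.S8.Solv.{u} (charDegrees Spor.Th) := by
  intro G _ _ hs hG
  have := H174.Ore.Th.finite
  have := H174.Ore.Th.simple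
  refine solv_of_cd (X := Spor.Th) H174.Ore.Th.nonab 90745943887872000 H174.Ore.Th.card (by norm_num) fac H174.Ore.Th.chk2
    H174.Ore.Th.chk3 cd H174.Ore.Th.chk1 H174.Ore.Th.has (ex := []) H511.Ore.noDeg_nil (W := W) ?_ ?_ mem_4123
    (by norm_num) chk hs hG
  · intro w hw
    simp only [W, List.mem_cons, List.not_mem_nil, or_false] at hw
    rcases hw with rfl | rfl | rfl
    exacts [mem_28861000, mem_4881384, mem_4123]
  · intro w hw
    simp only [W, List.mem_cons, List.not_mem_nil, or_false] at hw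
    rcases hw with rfl | rfl | rfl
    exacts [mem0, mem1, mem2]

/-- **SOLV for the Thompson group.** -/
theorem solv (D : Set ℕ) (h : H704.S8.Deg 1 Spor.Th D) : H704.S8.Solv.{u} D := by
  rcases h with h | ⟨h, -⟩
  · rw [h]
    exact fun hs hG => solv' hs hG
  · omega

end Cfsg.Agent.H810.S8.Th
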