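import Cfsg.Agent.H810.S8.Perf
import Cfsg.Agent.H511.Ore.Deg
import Cfsg.Agent.H704.S8.Defs
import Cfsg.Agent.H691.AN.Frame
import Cfsg.Agent.H424.DegTools
import Cfsg.Agent.H850.Cod.Basic

/-!
# S4908, SOLV: the numerical engine with a decidable superset of the degrees (helper810)

* `perfect_of_adm`, `solv_of_adm` : `𝒟` is contained in the set of the `d` with `adm d`, `W` is a list of known members
  (with the lists of their divisors);
* `solv_of_cd` : the superset is given by the residues at the primes of the degree sieve (`H511.Ore`, `H651.Two.CD`).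
-/

set_option autoImplicit false

namespace Cfsg.Agent.H810.S8

open Cfsg Cfsg.Agent.H681 Cfsg.Agent.H681.DegBasic
open Cfsg.Agent.H511.Ore Cfsg.Agent.H653.Sieve Cfsg.Agent.H651.Two

universe u v

open scoped commutatorElement

/-- no `f * (w / t)`, `t ∣ gcd w f`, is admissible (`l` : the divisors of `w`) -/
def badB (adm : ℕ → Bool) (f w : ℕ) (l : List ℕ) : Bool :=
  l.all fun t => !(Nat.beq (f % t) 0) || !(adm (f * (w / t)))

/-- no power `q * p ^ m` divides `ww` with `f ∣ q * p ^ m - 1` -/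
def npB (f p ww : ℕ) : ℕ → ℕ → Bool
  | 0, _ => false
  | k + 1, q => bif Nat.beq (ww % q) 0 then (!(Nat.beq ((q - 1) % f) 0) && npB f p ww k (q * p)) else true

theorem np_of {f p ww : ℕ} : ∀ (k q : ℕ), npB f p ww k q = true → ∀ m : ℕ, q * p ^ m ∣ ww → ¬ f ∣ q * p ^ m - 1 := by
  intro k
  induction k with
  | zero => intro q h; simp [npB] at h
  | succ k ih =>
    intro q h m hm
    rw [npB] at h
    by_cases hq : Nat.beq (ww % q) 0 = true
    · rw [hq, cond_true, Bool.and_eq_true, Bool.not_eq_true', ← Bool.not_eq_true, Nat.beq_eq] at h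
      cases m with
      | zero =>
        rw [pow_zero, mul_one]
        exact fun hd => h.1 (Nat.mod_eq_zero_of_dvd hd)
      | succ m =>
        have e : q * p ^ (m + 1) = q * p * p ^ m := by ring
        rw [e] at hm ⊢
        exact ih _ h.2 m hm
    · rw [Nat.beq_eq] at hq
      exact absurd (Nat.mod_eq_zero_of_dvd ((Dvd.intro _ rfl).trans hm)) hq

/-- the certificate for one `f` -/
def certB (adm : ℕ → Bool) (P : List ℕ) (W : List (ℕ × List ℕ)) (f : ℕ) : Bool :=
  (W.any fun w => badB adm f w.1 w.2) &&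
    P.all fun p =>
      (Nat.beq (f % p) 0 || W.any fun w => npB f p (w.1 * w.1) 100 p && badB adm f w.1 w.2) &&
      (!(Nat.beq (p ^ 40 % f) 0) || W.any fun w => !(Nat.beq (w.1 % p) 0) && badB adm f w.1 w.2)

theorem perfect_of_adm {𝒟 : Set ℕ} {adm : ℕ → Bool} {P : List ℕ} {W : List (ℕ × List ℕ)}
    (hadm : ∀ d ∈ 𝒟, adm d = true) (hW : ∀ w ∈ W, w.1 ∈ 𝒟) (hWd : ∀ w ∈ W, ∀ t, t ∣ w.1 → t ∈ w.2)
    (hP : ∀ p : ℕ, p.Prime → ∀ d ∈ 𝒟, p ∣ d → p ∈ P)
    (hchk : ∀ f ∈ 𝒟, 1 < f → f < 2 ^ 40 ∧ certB adm P W f = true)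
    {G : Type u} [Group G] [Finite G] (h : charDegrees G = 𝒟) : ⁅commutator G, commutator G⁆ = commutator G := by
  classical
  have := Fintype.ofFinite G
  by_contra hcon
  obtain ⟨p, f, hp, hf1, hc⟩ := cases_of_not_perfect_dvd hcon
  rw [h] at hc
  have one_mem' : (1 : ℕ) ∈ 𝒟 := h ▸ (one_mem : (1 : ℕ) ∈ charDegrees G)
  have pos' : ∀ {d : ℕ}, d ∈ 𝒟 → 0 < d := fun {d} hd => pos_of_mem (G := G) (h.symm ▸ hd)
  -- a bad witness
  have hbad : ∀ w ∈ W, badB adm f w.1 w.2 = true → ∀ e : ℕ, e ∣ w.1 → w.1 / e ∣ f → f * e ∉ 𝒟 := by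
    intro w hw hb e he hef hm
    have hw0 := pos' (hW w hw)
    have h1 : w.1 / e ∣ w.1 := Nat.div_dvd_of_dvd he
    have h2 := (List.all_eq_true.1 hb) _ (hWd w hw _ h1)
    have h3 : w.1 / (w.1 / e) = e := Nat.div_div_self he hw0.ne'
    rw [h3, hadm _ hm, Bool.not_true, Bool.or_false, Bool.not_eq_true', ← Bool.not_eq_true, Nat.beq_eq] at h2
    exact h2 (Nat.mod_eq_zero_of_dvd hef)
  rcases hc with ⟨⟨b, hb⟩, hc⟩ | ⟨hfp, N, hN, hNf, m, hm, hfm, hfd, hc⟩
  · -- the `p`-group case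
    have hfD : f ∈ 𝒟 := by
      rcases hc 1 one_mem' with h1 | h1
      · exact absurd (Nat.dvd_one.1 h1) hp.one_lt.ne'
      · rwa [mul_one] at h1
    obtain ⟨hf40, hcert⟩ := hchk f hfD hf1
    have hb0 : b ≠ 0 := by
      rintro rfl
      rw [pow_zero] at hb
      omega
    have hpf : p ∣ f := by rw [hb]; exact dvd_pow_self p hb0
    have hb40 : b ≤ 40 := by
      by_contra hlt
      have h1 : 2 ^ 40 ≤ p ^ b := (Nat.pow_le_pow_left hp.two_le 40).trans (Nat.pow_le_pow_right hp.pos (by omega))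
      omega
    have hff : f ∣ p ^ 40 := by rw [hb]; exact pow_dvd_pow p hb40
    rw [certB, Bool.and_eq_true] at hcert
    have h2 := (List.all_eq_true.1 hcert.2) p (hP p hp f hfD hpf)
    rw [Bool.and_eq_true] at h2
    have h3 := h2.2
    rw [Bool.or_eq_true, Bool.not_eq_true', ← Bool.not_eq_true, Nat.beq_eq] at h3
    rcases h3 with h3 | h3
    · exact h3 (Nat.mod_eq_zero_of_dvd hff)
    · obtain ⟨w, hw, h4⟩ := List.any_eq_true.1 h3
      rw [Bool.and_eq_true, Bool.not_eq_true', ← Bool.not_eq_true, Nat.beq_eq] at h4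
      rcases hc w.1 (hW w hw) with h5 | h5
      · exact h4.1 (Nat.mod_eq_zero_of_dvd h5)
      · refine hbad w hw h4.2 w.1 dvd_rfl ?_ h5
        rw [Nat.div_self (pos' (hW w hw))]
        exact one_dvd _
  · -- the Frobenius case
    have := Fintype.ofFinite N
    have hcN : ∀ e ∈ charDegrees N, p ^ m ∣ e ^ 2 ∨ f * e ∈ 𝒟 := by
      intro e he
      obtain ⟨ψ, hψ, hψe⟩ := mem_charDegrees.1 he
      exact hc ψ hψ e hψe
    have hfD : f ∈ 𝒟 := by
      rcases hcN 1 one_mem with h1 | h1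
      · rw [one_pow] at h1
        have := Nat.le_of_dvd one_pos h1
        omega
      · rwa [mul_one] at h1
    obtain ⟨-, hcert⟩ := hchk f hfD hf1
    rw [certB, Bool.and_eq_true] at hcert
    -- each bad witness is divisible
    have key : ∀ w ∈ W, badB adm f w.1 w.2 = true → p ^ m ∣ w.1 * w.1 := by
      intro w hw hb
      have hdG : w.1 ∈ charDegrees G := by rw [h]; exact hW w hw
      obtain ⟨χ, hχ, hχd⟩ := mem_charDegrees.1 hdG
      obtain ⟨ψ, e, hψ, hψe, -, he1, he2⟩ := exists_constituent N hχ hχd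
      rw [hNf] at he2
      have heN : e ∈ charDegrees N := mem_charDegrees.2 ⟨ψ, hψ, hψe⟩
      rcases hcN e heN with h1 | h1
      · rw [← sq]
        exact h1.trans (pow_dvd_pow_of_dvd he1 2)
      · exact absurd h1 (hbad w hw hb e he1 he2)
    have hpf : ¬ p ∣ f := fun h1 => by
      have h2 := (Nat.Prime.coprime_iff_not_dvd hp).1 hfp.symm
      exact h2 h1
    obtain ⟨w0, hw0, hb0⟩ := List.any_eq_true.1 hcert.1
    have hpd : p ∣ w0.1 := by
      have h1 := (dvd_pow_self p hm.ne').trans (key w0 hw0 hb0)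
      rcases (Nat.Prime.dvd_mul hp).1 h1 with h2 | h2 <;> exact h2
    have h2 := (List.all_eq_true.1 hcert.2) p (hP p hp w0.1 (hW w0 hw0) hpd)
    rw [Bool.and_eq_true] at h2
    have h3 := h2.1
    rw [Bool.or_eq_true, Nat.beq_eq] at h3
    rcases h3 with h3 | h3
    · exact hpf (Nat.dvd_of_mod_eq_zero h3)
    · obtain ⟨w, hw, h4⟩ := List.any_eq_true.1 h3
      rw [Bool.and_eq_true] at h4
      obtain ⟨j, rfl⟩ : ∃ j, m = j + 1 := ⟨m - 1, by omega⟩
      have h5 := np_of _ _ h4.1 j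
      have e : p * p ^ j = p ^ (j + 1) := by ring
      rw [e] at h5
      exact h5 (key w hw h4.2) hfd

/-- no solvable group has the degree set `𝒟` -/
theorem solv_of_adm {𝒟 : Set ℕ} {adm : ℕ → Bool} {P : List ℕ} {W : List (ℕ × List ℕ)}
    (hadm : ∀ d ∈ 𝒟, adm d = true) (hW : ∀ w ∈ W, w.1 ∈ 𝒟) (hWd : ∀ w ∈ W, ∀ t, t ∣ w.1 → t ∈ w.2)
    (hP : ∀ p : ℕ, p.Prime → ∀ d ∈ 𝒟, p ∣ d → p ∈ P)
    (hchk : ∀ f ∈ 𝒟, 1 < f → f < 2 ^ 40 ∧ certB adm P W f = true)
    {w : ℕ} (hw : w ∈ 𝒟) (hw1 : 1 < w) : Cfsg.Agent.H704.S8.Solv.{u} 𝒟 := by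
  intro G _ _ hs h
  have h1 := perfect_of_adm hadm hW hWd hP hchk h
  have h2 : commutator G = ⊥ := Cfsg.Agent.H691.AN.eq_bot_of_perfect h1
    (Group.isSolvable_of_isSolvable_injective (f := (commutator G).subtype) Subtype.val_injective)
  have h3 : w ∈ charDegrees G := h ▸ hw
  have hc : ∀ a b : G, a * b = b * a := by
    intro a b
    have h4 : ⁅a, b⁆ ∈ commutator G := by
      rw [commutator_def]
      exact Subgroup.commutator_mem_commutator (Subgroup.mem_top a) (Subgroup.mem_top b)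
    rw [h2, Subgroup.mem_bot, commutatorElement_eq_one_iff_mul_comm] at h4
    exact h4
  have h5 := H424.DegTools.ito h3 (⊤ : Subgroup G) (fun a _ b _ => hc a b)
  rw [Subgroup.index_top, Nat.dvd_one] at h5
  omega

/-! ### The superset from the residues -/

/-- the residues are right -/
def resB (cd : List CD) (d : ℕ) : Bool := cd.all fun c => c.wl.any fun rw => Nat.beq (d % c.r) rw.1

/-- `d` divides `N`, `d ^ 2 < N`, right residues, not excluded by hand -/
def admB (N : ℕ) (ex : List ℕ) (cd : List CD) (d : ℕ) : Bool :=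
  Nat.blt (d * d) N && (Nat.beq (N % d) 0 && (resB cd d && !(ex.any fun x => Nat.beq d x)))

/-- the test for the divisors `d` of `N` -/
def tstB (N : ℕ) (ex : List ℕ) (cd : List CD) (P : List ℕ) (W : List (ℕ × List ℕ)) (d : ℕ) : Bool :=
  bif Nat.ble d 1 then true else
    bif resB cd d && !(ex.any fun x => Nat.beq d x) then certB (admB N ex cd) P W d else true

section Simple

variable {X : Type v} [Group X] [Finite X]

theorem sq_lt [IsSimpleGroup X] {N : ℕ} (hN : Nat.card X = N) (χ : IrrCharacter X) :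
    charDegree (χ : X → ℂ) * charDegree (χ : X → ℂ) < N := by
  by_cases h1 : (χ : X → ℂ) = 1
  · rw [h1, H850.Cod.charDegree_one, ← hN]
    exact Finite.one_lt_card
  · have := H850.Cod.sq_lt χ h1
    rw [hN, sq] at this
    omega

theorem adm_of [IsSimpleGroup X] (hX : ¬ IsMulCommutative X) {N : ℕ} (hN : Nat.card X = N)
    (cd : List CD) (hcd : (cd.all (CD.ok N)) = true) (hx : ∀ d ∈ cd, d.Has X) {ex : List ℕ} (hex : NoDeg X ex) :
    ∀ d ∈ charDegrees X, (Nat.blt (d * d) N = true ∧ d ∣ N) ∧ resB cd d = true ∧ (ex.any fun x => Nat.beq d x) = false := by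
  rintro d ⟨χ, rfl⟩
  refine ⟨⟨?_, ?_⟩, ?_, ?_⟩
  · exact Nat.ble_eq_true_of_le (sq_lt hN χ)
  · rw [← hN]; exact charDegree_dvd χ
  · rw [resB, List.all_eq_true]
    exact fun c hc => res_of_has hX hN (hx c hc) (List.all_eq_true.1 hcd c hc) χ
  · rw [Bool.eq_false_iff]
    intro h
    obtain ⟨x, hx, h9⟩ := List.any_eq_true.1 h
    exact hex χ (by rw [Nat.eq_of_beq_eq_true h9]; exact hx)

theorem mem_fst_of_dvd : ∀ {L : List (ℕ × ℕ)}, (∀ pa ∈ L, pa.1.Prime) → ∀ {p : ℕ}, p.Prime → p ∣ facProd L →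
    p ∈ L.map Prod.fst
  | [], _, p, hp, h => absurd (Nat.dvd_one.1 h) hp.one_lt.ne'
  | (q, a) :: L, hL, p, hp, h => by
    rw [List.map_cons, List.mem_cons]
    rcases (Nat.Prime.dvd_mul hp).1 h with h1 | h1
    · left
      exact (Nat.prime_dvd_prime_iff_eq hp (hL _ List.mem_cons_self)).1 (hp.dvd_of_dvd_pow h1)
    · right
      exact mem_fst_of_dvd (fun pa hpa => hL pa (List.mem_cons_of_mem _ hpa)) hp h1

/-- **SOLV from the degree sieve.** -/
theorem solv_of_cd [IsSimpleGroup X] (hX : ¬ IsMulCommutative X) (N : ℕ) (hN : Nat.card X = N) (hN80 : N ≤ 2 ^ 80)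
    (L : List (ℕ × ℕ)) (hL : (L.all fun pa => Nat.Prime pa.1) = true) (hLN : facProd L = N) (cd : List CD)
    (hcd : (cd.all (CD.ok N)) = true) (hx : ∀ d ∈ cd, d.Has X) {ex : List ℕ} (hex : NoDeg X ex)
    {W : List (ℕ × List ℕ)} (hW : ∀ w ∈ W, w.1 ∈ charDegrees X) (hWd : ∀ w ∈ W, ∀ t, t ∣ w.1 → t ∈ w.2)
    {w : ℕ} (hw : w ∈ charDegrees X) (hw1 : 1 < w)
    (h : allDiv N (tstB N ex cd (L.map Prod.fst) W) L 1 = true) : Cfsg.Agent.H704.S8.Solv.{u} (charDegrees X) := by
  have hL' : ∀ pa ∈ L, pa.1.Prime := fun pa hpa => of_decide_eq_true (List.all_eq_true.1 hL pa hpa)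
  have hadm := adm_of hX hN cd hcd hx hex
  intro G _ _ hs hG
  refine solv_of_adm (adm := admB N ex cd) (P := L.map Prod.fst) (W := W) ?_ hW hWd ?_ ?_ hw hw1 hs hG
  · intro d hd
    obtain ⟨⟨h1, h2⟩, h3, h4⟩ := hadm d hd
    rw [admB, h1, h3, h4, Nat.mod_eq_zero_of_dvd h2]
    rfl
  · intro p hp d hd hpd
    exact mem_fst_of_dvd hL' hp (hLN ▸ hpd.trans (hadm d hd).1.2)
  · intro f hf hf1
    obtain ⟨⟨h1, h2⟩, h3, h4⟩ := hadm f hf
    have hlt : f * f < N := Nat.le_of_ble_eq_true h1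
    refine ⟨?_, ?_⟩
    · by_contra hcon
      push Not at hcon
      have := Nat.mul_le_mul hcon hcon
      have e : (2 : ℕ) ^ 40 * 2 ^ 40 = 2 ^ 80 := by norm_num
      omega
    · have h5 := allDiv_spec hL' h f (by rw [hLN]; exact h2) (by rw [one_mul]; exact hlt)
      have h6 : Nat.ble f 1 = false := by
        rw [Bool.eq_false_iff]; intro h; have := Nat.le_of_ble_eq_true h; omega
      rw [one_mul, tstB, h6, h3, h4] at h5
      exact h5

/-- completeness of a list of divisors -/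
theorem mem_of_dvd_of_chk {w : ℕ} {l : List ℕ} {L : List (ℕ × ℕ)} (hL : (L.all fun pa => Nat.Prime pa.1) = true)
    (hLw : facProd L = w) (h : allDiv (w * w + 1) (fun t => l.any fun x => Nat.beq x t) L 1 = true) :
    ∀ t, t ∣ w → t ∈ l := by
  intro t ht
  have hL' : ∀ pa ∈ L, pa.1.Prime := fun pa hpa => of_decide_eq_true (List.all_eq_true.1 hL pa hpa)
  have hw : 0 < w := by
    rcases Nat.eq_zero_or_pos w with h0 | h0
    · exfalso
      subst h0
      have : ∀ L : List (ℕ × ℕ), (∀ pa ∈ L, pa.1.Prime) → facProd L ≠ 0 := by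
        intro L
        induction L with
        | nil => intro _; exact one_ne_zero
        | cons a L ih =>
          intro hL
          obtain ⟨p, a⟩ := a
          have h1 := (hL _ List.mem_cons_self).pos
          exact Nat.mul_ne_zero (pow_ne_zero _ h1.ne') (ih fun pa hpa => hL pa (List.mem_cons_of_mem _ hpa))
      exact this L hL' hLw
    · exact h0
  have h1 := Nat.le_of_dvd hw ht
  have h2 := allDiv_spec hL' h t (by rw [hLw]; exact ht) (by rw [one_mul]; exact Nat.lt_succ_of_le (Nat.mul_le_mul h1 h1))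
  rw [one_mul] at h2
  obtain ⟨x, hx, h3⟩ := List.any_eq_true.1 h2
  rwa [Nat.eq_of_beq_eq_true h3] at hx

end Simple

end Cfsg.Agent.H810.S8
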