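import Cfsg.Agent.H810.S8.Eng
import Cfsg.Agent.H242.S8.Twin

/-!
# S4908, SOLV: the numerical engine for `X` and `Aut X` at once (helper810)

The entries of `W` are lists of alternatives `(w, divisors of w)`; one of them is a degree. `solv_two` : all `D` with
`Deg 2 X D`.
-/

set_option autoImplicit false

namespace Cfsg.Agent.H810.S8

open Cfsg Cfsg.Agent.H681 Cfsg.Agent.H681.DegBasic
open Cfsg.Agent.H511.Ore Cfsg.Agent.H653.Sieve Cfsg.Agent.H651.Two

universe u v

open scoped commutatorElement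

/-- no `f * (w / t)`, `t ∣ gcd w f`, is admissible; `B` bounds the squares of the degrees -/
def badC (adm : ℕ → Bool) (B f : ℕ) (w : ℕ × List ℕ) : Bool :=
  bif Nat.ble B ((f * (w.1 / Nat.gcd f w.1)) ^ 2) then true else
    w.2.all fun t => !(Nat.beq (f % t) 0) || !(adm (f * (w.1 / t)))

/-- no power `p ^ m`, `0 < m`, divides `ww` with `f ∣ p ^ m - 1` -/
def npC (f p ww : ℕ) : Bool :=
  bif Nat.ble (Nat.gcd ww (p ^ 200)) f then true else npB f p ww 200 p

theorem npC_of {f p ww : ℕ} (hp : p.Prime) (hf : f < 2 ^ 100) (hw : 0 < ww) (h : npC f p ww = true) {m : ℕ} (hm : 0 < m)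
    (hd : p ^ m ∣ ww) : ¬ f ∣ p ^ m - 1 := by
  intro hfd
  have hf0 : 0 < f := by
    rcases Nat.eq_zero_or_pos f with h0 | h0
    · exfalso
      rw [h0, zero_dvd_iff] at hfd
      have := Nat.one_lt_pow hm.ne' hp.one_lt
      omega
    · exact h0
  have h1 : 1 < p ^ m := Nat.one_lt_pow hm.ne' hp.one_lt
  have h2 : f < p ^ m := by
    have := Nat.le_of_dvd (by omega) hfd
    omega
  rw [npC] at h
  by_cases hle : Nat.ble (Nat.gcd ww (p ^ 200)) f = true
  · have h3 := Nat.le_of_ble_eq_true hle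
    have hg : 0 < Nat.gcd ww (p ^ 200) := Nat.gcd_pos_of_pos_left _ hw
    by_cases h200 : m ≤ 200
    · have h4 : p ^ m ∣ Nat.gcd ww (p ^ 200) := Nat.dvd_gcd hd (pow_dvd_pow p h200)
      have := Nat.le_of_dvd hg h4
      omega
    · have h4 : p ^ 200 ∣ Nat.gcd ww (p ^ 200) := Nat.dvd_gcd ((pow_dvd_pow p (by omega)).trans hd) dvd_rfl
      have h5 := Nat.le_of_dvd hg h4
      have h6 : 2 ^ 100 ≤ p ^ 200 :=
        (Nat.pow_le_pow_right (by norm_num) (by norm_num : 100 ≤ 200)).trans (Nat.pow_le_pow_left hp.two_le 200)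
      omega
  · rw [Bool.eq_false_iff.2 hle, cond_false] at h
    obtain ⟨j, rfl⟩ : ∃ j, m = j + 1 := ⟨m - 1, by omega⟩
    have h5 := np_of _ _ h j
    have e : p * p ^ j = p ^ (j + 1) := by ring
    rw [e] at h5
    exact h5 hd hfd

/-- the final check with the bad entries -/
def finB (P : List ℕ) (f : ℕ) (acc : List (List (ℕ × List ℕ))) : Bool :=
  P.all fun p =>
    (Nat.beq (f % p) 0 || acc.any fun l => l.all fun w => npC f p (w.1 * w.1)) &&
    (!(Nat.beq (p ^ 100 % f) 0) || acc.any fun l => l.all fun w => !(Nat.beq (w.1 % p) 0))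

/-- the certificate for `f` -/
def goB (adm : ℕ → Bool) (B : ℕ) (P : List ℕ) (f : ℕ) :
    List (List (ℕ × List ℕ)) → List (List (ℕ × List ℕ)) → Bool
  | [], _ => false
  | l :: W, acc =>
    bif l.all (badC adm B f) then (bif finB P f (l :: acc) then true else goB adm B P f W (l :: acc)) else
      goB adm B P f W acc

theorem go_spec {adm : ℕ → Bool} {B : ℕ} {P : List ℕ} {f : ℕ} : ∀ {W acc : List (List (ℕ × List ℕ))},
    goB adm B P f W acc = true → (∀ l ∈ acc, l.all (badC adm B f) = true) →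
    ∃ A : List (List (ℕ × List ℕ)), A ≠ [] ∧ (∀ l ∈ A, (l ∈ W ∨ l ∈ acc) ∧ l.all (badC adm B f) = true) ∧
      finB P f A = true
  | [], acc, h, _ => by simp [goB] at h
  | l :: W, acc, h, hacc => by
    rw [goB] at h
    by_cases hl : l.all (badC adm B f) = true
    · have hacc' : ∀ l' ∈ l :: acc, l'.all (badC adm B f) = true := by
        intro l' h'
        rcases List.mem_cons.1 h' with rfl | h'
        exacts [hl, hacc l' h']
      rw [hl, cond_true] at h
      by_cases hf : finB P f (l :: acc) = true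
      · refine ⟨l :: acc, by simp, fun l' h' => ⟨?_, hacc' l' h'⟩, hf⟩
        rcases List.mem_cons.1 h' with rfl | h'
        exacts [Or.inl List.mem_cons_self, Or.inr h']
      · rw [Bool.eq_false_iff.2 hf, cond_false] at h
        obtain ⟨A, h1, h2, h3⟩ := go_spec h hacc'
        refine ⟨A, h1, fun l' h' => ⟨?_, (h2 l' h').2⟩, h3⟩
        rcases (h2 l' h').1 with h4 | h4
        · exact Or.inl (List.mem_cons_of_mem _ h4)
        · rcases List.mem_cons.1 h4 with rfl | h4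
          exacts [Or.inl List.mem_cons_self, Or.inr h4]
    · rw [Bool.eq_false_iff.2 hl, cond_false] at h
      obtain ⟨A, h1, h2, h3⟩ := go_spec h hacc
      refine ⟨A, h1, fun l' h' => ⟨?_, (h2 l' h').2⟩, h3⟩
      rcases (h2 l' h').1 with h4 | h4
      exacts [Or.inl (List.mem_cons_of_mem _ h4), Or.inr h4]

theorem perfect_of_go {𝒟 : Set ℕ} {adm : ℕ → Bool} {B : ℕ} {P : List ℕ} {W : List (List (ℕ × List ℕ))}
    (hadm : ∀ d ∈ 𝒟, adm d = true) (hB : ∀ d ∈ 𝒟, d * d < B) (hW : ∀ l ∈ W, ∃ w ∈ l, w.1 ∈ 𝒟)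
    (hWd : ∀ l ∈ W, ∀ w ∈ l, ∀ t, t ∣ w.1 → t ∈ w.2)
    (hP : ∀ p : ℕ, p.Prime → ∀ d ∈ 𝒟, p ∣ d → p ∈ P)
    (hchk : ∀ f ∈ 𝒟, 1 < f → f < 2 ^ 100 ∧ goB adm B P f W [] = true)
    {G : Type u} [Group G] [Finite G] (h : charDegrees G = 𝒟) : ⁅commutator G, commutator G⁆ = commutator G := by
  classical
  have := Fintype.ofFinite G
  by_contra hcon
  obtain ⟨p, f, hp, hf1, hc⟩ := cases_of_not_perfect_dvd hcon
  rw [h] at hc
  have one_mem' : (1 : ℕ) ∈ 𝒟 := h ▸ (one_mem : (1 : ℕ) ∈ charDegrees G)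
  have pos' : ∀ {d : ℕ}, d ∈ 𝒟 → 0 < d := fun {d} hd => pos_of_mem (G := G) (h.symm ▸ hd)
  -- a bad witness
  have hbad : ∀ l ∈ W, ∀ w ∈ l, w.1 ∈ 𝒟 → badC adm B f w = true → ∀ e : ℕ, e ∣ w.1 → w.1 / e ∣ f → f * e ∉ 𝒟 := by
    intro l hl w hw hwD hb e he hef hm
    have hw0 := pos' hwD
    have h1 : w.1 / e ∣ w.1 := Nat.div_dvd_of_dvd he
    have h3 : w.1 / (w.1 / e) = e := Nat.div_div_self he hw0.ne'
    rw [badC] at hb
    by_cases hle : Nat.ble B ((f * (w.1 / Nat.gcd f w.1)) ^ 2) = true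
    · have h4 := Nat.le_of_ble_eq_true hle
      have h5 := hB _ hm
      have h6 : w.1 / e ≤ Nat.gcd f w.1 := Nat.le_of_dvd (Nat.gcd_pos_of_pos_right _ hw0) (Nat.dvd_gcd hef h1)
      have h7 : w.1 / Nat.gcd f w.1 ≤ e := by
        have h8 : 0 < w.1 / e := Nat.div_pos (Nat.le_of_dvd hw0 he) (Nat.pos_of_dvd_of_pos he hw0)
        have h9 := Nat.div_le_div_left h6 h8 (a := w.1)
        rwa [h3] at h9
      have h10 := Nat.mul_le_mul_left f h7
      have h11 := Nat.mul_le_mul h10 h10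
      rw [sq] at h4
      omega
    · rw [Bool.eq_false_iff.2 hle, cond_false] at hb
      have h2 := (List.all_eq_true.1 hb) _ (hWd l hl w hw _ h1)
      rw [h3, hadm _ hm, Bool.not_true, Bool.or_false, Bool.not_eq_true', ← Bool.not_eq_true, Nat.beq_eq] at h2
      exact h2 (Nat.mod_eq_zero_of_dvd hef)
  rcases hc with ⟨⟨b, hb⟩, hc⟩ | ⟨hfp, N, hN, hNf, m, hm, hfm, hfd, hc⟩
  · -- the `p`-group case
    have hfD : f ∈ 𝒟 := by
      rcases hc 1 one_mem' with h1 | h1
      · exact absurd (Nat.dvd_one.1 h1) hp.one_lt.ne'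
      · rwa [mul_one] at h1
    obtain ⟨hf40, hcert⟩ := hchk f hfD hf1
    obtain ⟨A, -, hA, hfin⟩ := go_spec hcert (by simp)
    have hb0 : b ≠ 0 := by
      rintro rfl
      rw [pow_zero] at hb
      omega
    have hpf : p ∣ f := by rw [hb]; exact dvd_pow_self p hb0
    have hb40 : b ≤ 100 := by
      by_contra hlt
      have h1 : 2 ^ 100 ≤ p ^ b := (Nat.pow_le_pow_left hp.two_le 100).trans (Nat.pow_le_pow_right hp.pos (by omega))
      omega
    have hff : f ∣ p ^ 100 := by rw [hb]; exact pow_dvd_pow p hb40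
    have h2 := (List.all_eq_true.1 hfin) p (hP p hp f hfD hpf)
    rw [Bool.and_eq_true] at h2
    have h3 := h2.2
    rw [Bool.or_eq_true, Bool.not_eq_true', ← Bool.not_eq_true, Nat.beq_eq] at h3
    rcases h3 with h3 | h3
    · exact h3 (Nat.mod_eq_zero_of_dvd hff)
    · obtain ⟨l, hl, h4⟩ := List.any_eq_true.1 h3
      obtain ⟨h5, h6⟩ := hA l hl
      have hlW : l ∈ W := h5.resolve_right (by simp)
      obtain ⟨w, hw, hwD⟩ := hW l hlW
      have h7 := (List.all_eq_true.1 h4) w hw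
      rw [Bool.not_eq_true', ← Bool.not_eq_true, Nat.beq_eq] at h7
      rcases hc w.1 hwD with h8 | h8
      · exact h7 (Nat.mod_eq_zero_of_dvd h8)
      · refine hbad l hlW w hw hwD ((List.all_eq_true.1 h6) w hw) w.1 dvd_rfl ?_ h8
        rw [Nat.div_self (pos' hwD)]
        exact one_dvd _
  · -- the Frobenius case
    have := Fintype.ofFinite N
    have hcN : ∀ e ∈ charDegrees N, p ^ m ∣ e ^ 2 ∨ f * e ∈ 𝒟 := by
      intro e he
      obtain ⟨ψ, hψ, hψe⟩ := mem_charDegrees.1 he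
      exact hc ψ hψ e hψe
    have hfD : f ∈ 𝒟 := by
      rcases hcN 1 one_mem with h1 | h1
      · rw [one_pow] at h1
        have := Nat.le_of_dvd one_pos h1
        omega
      · rwa [mul_one] at h1
    obtain ⟨hf100, hcert⟩ := hchk f hfD hf1
    obtain ⟨A, hA0, hA, hfin⟩ := go_spec hcert (by simp)
    -- each bad witness is divisible
    have key : ∀ l ∈ A, ∃ w ∈ l, w.1 ∈ 𝒟 ∧ p ^ m ∣ w.1 * w.1 := by
      intro l hl
      obtain ⟨h5, h6⟩ := hA l hl
      have hlW : l ∈ W := h5.resolve_right (by simp)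
      obtain ⟨w, hw, hwD⟩ := hW l hlW
      refine ⟨w, hw, hwD, ?_⟩
      have hdG : w.1 ∈ charDegrees G := by rw [h]; exact hwD
      obtain ⟨χ, hχ, hχd⟩ := mem_charDegrees.1 hdG
      obtain ⟨ψ, e, hψ, hψe, -, he1, he2⟩ := exists_constituent N hχ hχd
      rw [hNf] at he2
      have heN : e ∈ charDegrees N := mem_charDegrees.2 ⟨ψ, hψ, hψe⟩
      rcases hcN e heN with h1 | h1
      · rw [← sq]
        exact h1.trans (pow_dvd_pow_of_dvd he1 2)
      · exact absurd h1 (hbad l hlW w hw hwD ((List.all_eq_true.1 h6) w hw) e he1 he2)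
    have hpf : ¬ p ∣ f := fun h1 => by
      have h2 := (Nat.Prime.coprime_iff_not_dvd hp).1 hfp.symm
      exact h2 h1
    obtain ⟨l0, hl0⟩ := List.exists_mem_of_ne_nil A hA0
    obtain ⟨w0, -, hw0D, hk0⟩ := key l0 hl0
    have hpd : p ∣ w0.1 := by
      have h1 := (dvd_pow_self p hm.ne').trans hk0
      rcases (Nat.Prime.dvd_mul hp).1 h1 with h2 | h2 <;> exact h2
    have h2 := (List.all_eq_true.1 hfin) p (hP p hp w0.1 hw0D hpd)
    rw [Bool.and_eq_true] at h2
    have h3 := h2.1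
    rw [Bool.or_eq_true, Nat.beq_eq] at h3
    rcases h3 with h3 | h3
    · exact hpf (Nat.dvd_of_mod_eq_zero h3)
    · obtain ⟨l, hl, h4⟩ := List.any_eq_true.1 h3
      obtain ⟨w, hw, hwD', hk⟩ := key l hl
      have h7 := (List.all_eq_true.1 h4) w hw
      have hw0 := pos' hwD'
      exact npC_of hp hf100 (Nat.mul_pos hw0 hw0) h7 hm hk hfd

/-- no solvable group has the degree set `𝒟` -/
theorem solv_of_go {𝒟 : Set ℕ} {adm : ℕ → Bool} {B : ℕ} {P : List ℕ} {W : List (List (ℕ × List ℕ))}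
    (hadm : ∀ d ∈ 𝒟, adm d = true) (hB : ∀ d ∈ 𝒟, d * d < B) (hW : ∀ l ∈ W, ∃ w ∈ l, w.1 ∈ 𝒟)
    (hWd : ∀ l ∈ W, ∀ w ∈ l, ∀ t, t ∣ w.1 → t ∈ w.2)
    (hP : ∀ p : ℕ, p.Prime → ∀ d ∈ 𝒟, p ∣ d → p ∈ P)
    (hchk : ∀ f ∈ 𝒟, 1 < f → f < 2 ^ 100 ∧ goB adm B P f W [] = true)
    {w : ℕ} (hw : w ∈ 𝒟) (hw1 : 1 < w) : Cfsg.Agent.H704.S8.Solv.{u} 𝒟 := by
  intro G _ _ hs h
  have h1 := perfect_of_go hadm hB hW hWd hP hchk h
  have h2 : commutator G = ⊥ := Cfsg.Agent.H691.AN.eq_bot_of_perfect h1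
    (Group.isSolvable_of_isSolvable_injective (f := (commutator G).subtype) Subtype.val_injective)
  have h3 : w ∈ charDegrees G := h ▸ hw
  have hc : ∀ a b : G, a * b = b * a := by
    intro a b
    have h4 : ⁅a, b⁆ ∈ commutator G := by
      rw [commutator_def]
      exact Subgroup.commutator_mem_commutator (Subgroup.mem_top a) (Subgroup.mem_top b)
    rw [h2, Subgroup.mem_bot, commutatorElement_eq_one_iff_mul_comm] at h4
    exact h4
  have h5 := H424.DegTools.ito h3 (⊤ : Subgroup G) (fun a _ b _ => hc a b)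
  rw [Subgroup.index_top, Nat.dvd_one] at h5
  omega

/-- the superset of the degrees of `X` and `Aut X` -/
def adm2 (N : ℕ) (ex : List ℕ) (cd : List CD) (d : ℕ) : Bool :=
  admB N ex cd d || (Nat.beq (d % 2) 0 && (Nat.blt 2 d && admB N ex cd (d / 2)))

/-- the test for the divisors `d` of `N` -/
def tst2 (N : ℕ) (ex : List ℕ) (cd : List CD) (P : List ℕ) (W : List (List (ℕ × List ℕ))) (d : ℕ) : Bool :=
  bif Nat.ble d 1 then true else
    bif resB cd d && !(ex.any fun x => Nat.beq d x) then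
      goB (adm2 N ex cd) (4 * N) P d W [] && goB (adm2 N ex cd) (4 * N) P (2 * d) W [] else true

/-- pieces of the check -/
theorem allDiv_cons {N : ℕ} {f : ℕ → Bool} {p : ℕ} {L : List (ℕ × ℕ)} {d : ℕ} (h0 : allDiv N f L d = true)
    (h1 : allDiv N f L (d * p) = true) : allDiv N f ((p, 1) :: L) d = true := by
  show allPow N (allDiv N f L) p 1 d = true
  rw [allPow]
  cases Nat.ble N (d * d)
  · rw [cond_false, h0, Bool.true_and, allPow]
    exact h1
  · rfl

/-- **SOLV for `X` and `Aut X` from the degree sieve.** -/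
theorem solv_two {X : Type v} [Group X] [Finite X] [IsSimpleGroup X] (hX : ¬ IsMulCommutative X)
    (hi : (MulAut.conj : X →* MulAut X).range.index ≤ 2) (N : ℕ) (hN : Nat.card X = N) (hN80 : N ≤ 2 ^ 198)
    (L : List (ℕ × ℕ)) (hL : (L.all fun pa => Nat.Prime pa.1) = true) (hLN : facProd L = N) (h2N : 2 ∣ N) (cd : List CD)
    (hcd : (cd.all (CD.ok N)) = true) (hx : ∀ d ∈ cd, d.Has X) {ex : List ℕ} (hex : NoDeg X ex)
    {W : List (List (ℕ × List ℕ))}
    (hW : ∀ l ∈ W, ∃ n ∈ charDegrees X, (∃ w ∈ l, w.1 = n) ∧ ∃ w ∈ l, w.1 = 2 * n)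
    (hWd : ∀ l ∈ W, ∀ w ∈ l, ∀ t, t ∣ w.1 → t ∈ w.2)
    {w : ℕ} (hw : w ∈ charDegrees X) (hw1 : 1 < w)
    (h : allDiv N (tst2 N ex cd (L.map Prod.fst) W) L 1 = true) (D : Set ℕ) (hD : Cfsg.Agent.H704.S8.Deg 2 X D) :
    Cfsg.Agent.H704.S8.Solv.{u} D := by
  have hL' : ∀ pa ∈ L, pa.1.Prime := fun pa hpa => of_decide_eq_true (List.all_eq_true.1 hL pa hpa)
  have hadm := adm_of hX hN cd hcd hx hex
  have hperf : commutator X = ⊤ := by
    rcases IsSimpleGroup.eq_bot_or_eq_top_of_normal (commutator X) inferInstance with h1 | h1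
    · exfalso
      apply hX
      refine ⟨⟨fun a b => ?_⟩⟩
      have h4 : ⁅a, b⁆ ∈ commutator X := by
        rw [commutator_def]
        exact Subgroup.commutator_mem_commutator (Subgroup.mem_top a) (Subgroup.mem_top b)
      rw [h1, Subgroup.mem_bot, commutatorElement_eq_one_iff_mul_comm] at h4
      exact h4
    · exact h1
  have hz : Subgroup.center X = ⊥ := by
    rcases IsSimpleGroup.eq_bot_or_eq_top_of_normal (Subgroup.center X) inferInstance with h1 | h1
    · exact h1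
    · exfalso
      apply hX
      refine ⟨⟨fun a b => ?_⟩⟩
      have h4 : b ∈ Subgroup.center X := by rw [h1]; trivial
      exact Subgroup.mem_center_iff.1 h4 a
  obtain ⟨tw1, tw2⟩ := H242.S8.twin hperf hz hi
  -- the members
  have hmem : ∀ d ∈ D, d ∈ charDegrees X ∨ ∃ n ∈ charDegrees X, n ≠ 1 ∧ d = 2 * n := by
    rcases hD with rfl | ⟨-, rfl⟩
    · exact fun d hd => Or.inl hd
    · exact tw2
  have hmem' : ∀ n ∈ charDegrees X, n ∈ D ∨ 2 * n ∈ D := by
    rcases hD with rfl | ⟨-, rfl⟩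
    · exact fun d hd => Or.inl hd
    · exact tw1
  have hsq : ∀ n ∈ charDegrees X, n * n < N := fun n hn => Nat.le_of_ble_eq_true (hadm n hn).1.1
  have hpos : ∀ n ∈ charDegrees X, 0 < n := fun n hn => pos_of_mem hn
  obtain ⟨w', hw', hw1'⟩ : ∃ w' ∈ D, 1 < w' := by
    rcases hmem' w hw with h1 | h1
    · exact ⟨_, h1, hw1⟩
    · exact ⟨_, h1, by omega⟩
  have hadm1 : ∀ n ∈ charDegrees X, admB N ex cd n = true := by
    intro d hd
    obtain ⟨⟨h1, h2⟩, h3, h4⟩ := hadm d hd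
    rw [admB, h1, h3, h4, Nat.mod_eq_zero_of_dvd h2]
    rfl
  intro G _ _ hs hG
  refine solv_of_go (adm := adm2 N ex cd) (B := 4 * N) (P := L.map Prod.fst) (W := W) ?_ ?_ ?_ hWd ?_ ?_ hw' hw1' hs hG
  · intro d hd
    rcases hmem d hd with h1 | ⟨n, h1, h2, rfl⟩
    · rw [adm2, hadm1 d h1]
      rfl
    · have h3 : 2 * n / 2 = n := Nat.mul_div_cancel_left n (by norm_num)
      have h4 : 2 * n % 2 = 0 := Nat.mul_mod_right 2 n
      have h5 : Nat.blt 2 (2 * n) = true := by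
        have := hpos n h1
        exact Nat.ble_eq_true_of_le (by omega)
      rw [adm2, h3, h4, h5, hadm1 n h1]
      cases admB N ex cd (2 * n) <;> rfl
  · intro d hd
    rcases hmem d hd with h1 | ⟨n, h1, h2, rfl⟩
    · have := hsq d h1
      omega
    · have := hsq n h1
      have e : 2 * n * (2 * n) = 4 * (n * n) := by ring
      omega
  · intro l hl
    obtain ⟨n, hn, ⟨x, hx1, hx2⟩, ⟨y, hy1, hy2⟩⟩ := hW l hl
    rcases hmem' n hn with h1 | h1
    · exact ⟨x, hx1, by rw [hx2]; exact h1⟩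
    · exact ⟨y, hy1, by rw [hy2]; exact h1⟩
  · intro p hp d hd hpd
    have hpN : p ∣ N := by
      rcases hmem d hd with h1 | ⟨n, h1, h2, rfl⟩
      · exact hpd.trans (hadm d h1).1.2
      · rcases (Nat.Prime.dvd_mul hp).1 hpd with h3 | h3
        · exact h3.trans h2N
        · exact h3.trans (hadm n h1).1.2
    exact mem_fst_of_dvd hL' hp (hLN ▸ hpN)
  · have hlt : ∀ n ∈ charDegrees X, n < 2 ^ 99 := by
      intro n hn
      by_contra hcon
      push Not at hcon
      have h1 := Nat.mul_le_mul hcon hcon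
      have e : (2 : ℕ) ^ 99 * 2 ^ 99 = 2 ^ 198 := by norm_num
      have := hsq n hn
      omega
    have hgo : ∀ n ∈ charDegrees X, 1 < n →
        goB (adm2 N ex cd) (4 * N) (L.map Prod.fst) n W [] = true ∧
        goB (adm2 N ex cd) (4 * N) (L.map Prod.fst) (2 * n) W [] = true := by
      intro f hf hf1
      obtain ⟨⟨h1, h2⟩, h3, h4⟩ := hadm f hf
      have h5 := allDiv_spec hL' h f (by rw [hLN]; exact h2) (by rw [one_mul]; exact hsq f hf)
      have h6 : Nat.ble f 1 = false := by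
        rw [Bool.eq_false_iff]; intro h; have := Nat.le_of_ble_eq_true h; omega
      rw [one_mul, tst2, h6, h3, h4] at h5
      exact Bool.and_eq_true_iff.1 h5
    intro f hf hf1
    rcases hmem f hf with h1 | ⟨n, h1, h2, rfl⟩
    · have := hlt f h1
      exact ⟨by omega, (hgo f h1 hf1).1⟩
    · have := hlt n h1
      have h3 := hpos n h1
      exact ⟨by omega, (hgo n h1 (by omega)).2⟩

end Cfsg.Agent.H810.S8
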