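import Cfsg.Agent.H810.S8.FiData

/-!
# S4908, SOLV: the numerical check for FiT, part 3 (helper810)
-/

set_option autoImplicit false
set_option maxRecDepth 1000000

namespace Cfsg.Agent.H810.S8.FiT

open Cfsg.Agent.H653.Sieve

theorem p10000 : allDiv 1255205709190661721292800 T [(7, 3), (5, 2), (3, 16), (2, 21)] (1 * 29) = true := by decide +kernel

theorem p10001 : allDiv 1255205709190661721292800 T [(7, 3), (5, 2), (3, 16), (2, 21)] (1 * 29 * 11) = true := by decide +kernel

theorem p10010 : allDiv 1255205709190661721292800 T [(7, 3), (5, 2), (3, 16), (2, 21)] (1 * 29 * 13) = true := by decide +kernel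

theorem p10011 : allDiv 1255205709190661721292800 T [(7, 3), (5, 2), (3, 16), (2, 21)] (1 * 29 * 13 * 11) = true := by decide +kernel

theorem p10100 : allDiv 1255205709190661721292800 T [(7, 3), (5, 2), (3, 16), (2, 21)] (1 * 29 * 17) = true := by decide +kernel

theorem p10101 : allDiv 1255205709190661721292800 T [(7, 3), (5, 2), (3, 16), (2, 21)] (1 * 29 * 17 * 11) = true := by decide +kernel

theorem p10110 : allDiv 1255205709190661721292800 T [(7, 3), (5, 2), (3, 16), (2, 21)] (1 * 29 * 17 * 13) = true := by decide +kernel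

theorem p10111 : allDiv 1255205709190661721292800 T [(7, 3), (5, 2), (3, 16), (2, 21)] (1 * 29 * 17 * 13 * 11) = true := by decide +kernel

end Cfsg.Agent.H810.S8.FiT
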