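import Cfsg.Agent.H810.S8.FiChkA
import Cfsg.Agent.H810.S8.FiChkB
import Cfsg.Agent.H810.S8.FiChkC
import Cfsg.Agent.H810.S8.FiChkD

/-!
# S4908, SOLV: the numerical check for FiT (helper810)
-/

set_option autoImplicit false

namespace Cfsg.Agent.H810.S8.FiT

open Cfsg.Agent.H653.Sieve

theorem chk : allDiv 1255205709190661721292800 T fac 1 = true :=
  (allDiv_cons (allDiv_cons (allDiv_cons (allDiv_cons (allDiv_cons p00000 p00001) (allDiv_cons p00010 p00011)) (allDiv_cons (allDiv_cons p00100 p00101) (allDiv_cons p00110 p00111))) (allDiv_cons (allDiv_cons (allDiv_cons p01000 p01001) (allDiv_cons p01010 p01011)) (allDiv_cons (allDiv_cons p01100 p01101) (allDiv_cons p01110 p01111)))) (allDiv_cons (allDiv_cons (allDiv_cons (allDiv_cons p10000 p10001) (allDiv_cons p10010 p10011)) (allDiv_cons (allDiv_cons p10100 p10101) (allDiv_cons p10110 p10111))) (allDiv_cons (allDiv_cons (allDiv_cons p11000 p11001) (allDiv_cons p11010 p11011)) (allDiv_cons (allDiv_cons p11100 p11101) (allDiv_cons p11110 p11111)))))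

end Cfsg.Agent.H810.S8.FiT
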