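import Cfsg.Agent.H34.PerfThree

/-!
# The dichotomy for groups whose derived subgroup is not perfect, with the order of the Frobenius kernel (helper810)

`cases_of_not_perfect_dvd` : `H34.Perf3.cases_of_not_perfect` with the additional conclusion `f ∣ p ^ m - 1`
(the proof is the proof of helper34).
-/

set_option autoImplicit false

namespace Cfsg.Agent.H810.S8

open Cfsg Cfsg.Agent.Characters.Core Cfsg.Agent.H681 Cfsg.Agent.H681.DegBasic Cfsg.Agent.H691 Cfsg.Agent.H691.T3
open Cfsg.Agent.H34

theorem dvd_card_of_stab {M X : Type*} [Group M] [MulAction M X] [Finite X] {m : ℕ}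
    (h : ∀ x : X, m ∣ (MulAction.stabilizer M x).index) : m ∣ Nat.card X := by
  classical
  have := Fintype.ofFinite (Quotient (MulAction.orbitRel M X))
  rw [Nat.card_congr (MulAction.selfEquivSigmaOrbits M X), Nat.card_sigma]
  refine Finset.dvd_sum fun ω _ => ?_
  have h1 := h ω.out
  rwa [MulAction.index_stabilizer, ← Nat.card_coe_set_eq] at h1

/-- the index of the Frobenius kernel divides its order minus 1 -/
theorem index_dvd {Q : Type*} [Group Q] [Finite Q] {V : Subgroup Q} [hV : V.Normal]
    (hab : ∀ a ∈ V, ∀ b ∈ V, a * b = b * a) (hfpf : ∀ g, g ∉ V → ∀ v ∈ V, g * v = v * g → v = 1) :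
    V.index ∣ Nat.card V - 1 := by
  classical
  let X := {v : Q // v ∈ V ∧ v ≠ 1}
  let _ : MulAction Q X :=
    { smul := fun c v => ⟨c * v.1 * c⁻¹, hV.conj_mem _ v.2.1 c, fun h => v.2.2 (by rwa [conj_eq_one_iff] at h)⟩
      one_smul := fun v => Subtype.ext (by
        change 1 * v.1 * 1⁻¹ = v.1
        group)
      mul_smul := fun a b v => Subtype.ext (by
        change (a * b) * v.1 * (a * b)⁻¹ = a * (b * v.1 * b⁻¹) * a⁻¹
        group) }
  have hsm : ∀ (c : Q) (v : X), ((c • v : X) : Q) = c * v.1 * c⁻¹ := fun _ _ => rfl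
  have h1 : V.index ∣ Nat.card X := by
    refine dvd_card_of_stab (M := Q) fun v => ?_
    have h2 : MulAction.stabilizer Q v = V := by
      ext c
      rw [MulAction.mem_stabilizer_iff]
      constructor
      · intro h3
        by_contra hc
        have h4 := congrArg Subtype.val h3
        rw [hsm, mul_inv_eq_iff_eq_mul] at h4
        exact v.2.2 (hfpf c hc v.1 v.2.1 h4)
      · intro h3
        apply Subtype.ext
        rw [hsm, hab c h3 v.1 v.2.1, mul_inv_cancel_right]
    rw [h2]
  have h2 : Nat.card X = Nat.card V - 1 := by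
    have h3 : Nat.card {v : V // v ≠ 1} = Nat.card V - 1 := by
      have := Fintype.ofFinite V
      rw [Nat.card_eq_fintype_card, Nat.card_eq_fintype_card, Fintype.card_subtype_compl, Fintype.card_subtype_eq]
    rw [← h3]
    refine Nat.card_congr
      { toFun := fun v => ⟨⟨v.1, v.2.1⟩, fun h => v.2.2 (congrArg Subtype.val h)⟩
        invFun := fun v => ⟨v.1.1, v.1.2, fun h => v.2 (Subtype.ext h)⟩
        left_inv := fun _ => rfl
        right_inv := fun _ => rfl }
  rwa [h2] at h1

/-- The dichotomy, relative to a surjection on a minimal nonabelian solvable group. -/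
theorem cases_of_surj_dvd {G Q : Type*} [Group G] [Finite G] [Group Q] [Finite Q] [Group.IsSolvable Q]
    (π : G →* Q) (hπ : Function.Surjective π) (h1 : commutator Q ≠ ⊥)
    (hmin : ∀ M : Subgroup Q, M.Normal → M ≠ ⊥ → commutator Q ≤ M) :
    ∃ (p : ℕ) (f : ℕ), p.Prime ∧ 1 < f ∧
      (((∃ b, f = p ^ b) ∧ ∀ n ∈ charDegrees G, p ∣ n ∨ f * n ∈ charDegrees G) ∨
        (f.Coprime p ∧ ∃ N : Subgroup G, ∃ _ : N.Normal, N.index = f ∧
          ∃ m : ℕ, 0 < m ∧ f < p ^ m ∧ f ∣ p ^ m - 1 ∧
            ∀ (ψ : N → ℂ), IsIrrCharacter N ψ → ∀ d : ℕ, ψ 1 = d → p ^ m ∣ d ^ 2 ∨ f * d ∈ charDegrees G)) := by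
  classical
  have := Fintype.ofFinite G
  have hab := MinNonab.comm_of_mem h1 hmin
  obtain ⟨p, hp, hexp⟩ := MinNonab.exists_prime h1 hab hmin
  have hpf := Fact.mk hp
  by_cases hZ : Subgroup.center Q = ⊥
  · -- Frobenius case
    have hfpf := MinNonab.fixedPointFree hab hmin h1 hZ
    have hidx : 1 < (commutator Q).index := by
      have h0 : (commutator Q).index ≠ 0 := Subgroup.index_ne_zero_of_finite
      have h2 : (commutator Q).index ≠ 1 := by
        intro h
        rw [Subgroup.index_eq_one] at h
        apply h1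
        rw [eq_bot_iff, ← hZ]
        intro v hv
        rw [Subgroup.mem_center_iff]
        intro g
        exact hab g (h ▸ Subgroup.mem_top g) v hv
      omega
    -- `f` is coprime to `p`
    have hcop : (commutator Q).index.Coprime p := by
      rw [Nat.coprime_comm, hp.coprime_iff_not_dvd]
      intro hdvd
      -- a `p`-element outside `V` acts with fixed points on `V`
      have hVp : IsPGroup p (commutator Q) := by
        intro v
        exact ⟨1, Subtype.ext (by simpa using hexp v v.2)⟩
      obtain ⟨P, hP⟩ := hVp.exists_le_sylow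
      -- `P ≠ V`
      have hne : ∃ x ∈ (P : Subgroup Q), x ∉ commutator Q := by
        by_contra hcon
        push Not at hcon
        have heq : (P : Subgroup Q) = commutator Q := le_antisymm hcon hP
        apply P.not_dvd_index
        rw [heq]
        exact hdvd
      obtain ⟨x, hxP, hxV⟩ := hne
      -- `Z(P) ∩ V ≠ 1`
      have hPp : IsPGroup p (P : Subgroup Q) := P.isPGroup'
      let V' : Subgroup (P : Subgroup Q) := (commutator Q).subgroupOf P
      have hV'n : V'.Normal := inferInstance
      have hV'1 : V' ≠ ⊥ := by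
        intro h
        apply h1
        rw [eq_bot_iff]
        intro v hv
        have : (⟨v, hP hv⟩ : (P : Subgroup Q)) ∈ V' := Subgroup.mem_subgroupOf.2 hv
        rw [h, Subgroup.mem_bot] at this
        exact Subgroup.mem_bot.2 (congrArg Subtype.val this)
      obtain ⟨z, hz1, hz2, hz⟩ :=
        Cfsg.Agent.Transfer.PGroupNormal.exists_mem_inf_center_orderOf hPp V' hV'1
      have hz3 : (z : Q) ∈ commutator Q := Subgroup.mem_subgroupOf.1 hz1
      have hz4 := Subgroup.mem_center_iff.1 hz2 ⟨x, hxP⟩
      have hz5 : x * (z : Q) = z * x := congrArg Subtype.val hz4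
      have hz6 := hfpf x hxV z hz3 hz5
      have hz7 : z = 1 := Subtype.ext hz6
      rw [hz7, orderOf_one] at hz
      exact hp.one_lt.ne hz
    have hVp : IsPGroup p (commutator Q) := by
      intro v
      exact ⟨1, Subtype.ext (by simpa using hexp v v.2)⟩
    obtain ⟨m, hm⟩ := IsPGroup.iff_card.1 hVp
    have hlt := FrobDeg.index_lt (commutator Q) hfpf h1
    rw [hm] at hlt
    have hdv := index_dvd (V := commutator Q) hab hfpf
    rw [hm] at hdv
    have hm0 : 0 < m := by
      rcases Nat.eq_zero_or_pos m with h0 | h0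
      · rw [h0, pow_zero] at hlt
        omega
      · exact h0
    refine ⟨p, (commutator Q).index, hp, hidx, Or.inr ⟨hcop, (commutator Q).comap π,
      (inferInstance : (commutator Q).Normal).comap _, ?_, m, hm0, hlt, hdv, ?_⟩⟩
    · exact Subgroup.index_comap_of_surjective _ hπ
    · intro ψ hψ d hψd
      have hNn : ((commutator Q).comap π).Normal := (inferInstance : (commutator Q).Normal).comap _
      have h2 := Frob.index_mul_mem_or (commutator Q) π hπ hab hfpf ((commutator Q).comap π) rfl hψ hψd
      rw [hm] at h2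
      exact h2.symm
  · -- the `p`-group case
    have hPG : IsPGroup p Q := MinNonab.isPGroup_of_center h1 hp hexp hmin hZ
    obtain ⟨a, ha⟩ := IsPGroup.iff_card.1 hPG
    -- a nonlinear irreducible character of the quotient
    obtain ⟨f, hf, hf1⟩ : ∃ f ∈ charDegrees Q, f ≠ 1 := by
      by_contra hcon
      push Not at hcon
      apply h1
      have hall : ∀ χ : IrrCharacter Q, (χ : Q → ℂ) 1 = 1 := by
        intro χ
        obtain ⟨m, hm, hm'⟩ := isIrr_apply_one χ.2
        have := hcon m (mem_charDegrees.2 ⟨χ, χ.2, hm'⟩)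
        rw [hm', this, Nat.cast_one]
      have hc := S0187.result.2 hall
      rw [commutator_eq_bot_iff_center_eq_top, Subgroup.eq_top_iff']
      intro x
      rw [Subgroup.mem_center_iff]
      intro y
      exact hc y x
    have hfp : ∃ b, f = p ^ b := by
      have h2 := dvd_card hf
      rw [ha] at h2
      obtain ⟨b, -, hb⟩ := (Nat.dvd_prime_pow hp).1 h2
      exact ⟨b, hb⟩
    have hfpos := pos_of_mem hf
    refine ⟨p, f, hp, by omega, Or.inl ⟨hfp, ?_⟩⟩
    intro n hn
    by_cases hpn : p ∣ n
    · exact Or.inl hpn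
    · right
      obtain ⟨χ, hχ, hχn⟩ := mem_charDegrees.1 hn
      have := Fintype.ofFinite π.ker
      obtain ⟨ψ, d, hψ, hψd, hne, hd1, hd2⟩ := exists_constituent π.ker hχ hχn
      have hidx : π.ker.index = p ^ a := by
        rw [← ha]
        have := Nat.card_congr (QuotientGroup.quotientKerEquivOfSurjective π hπ).toEquiv
        exact this
      rw [hidx] at hd2
      have hnd : n / d = 1 := by
        have h2 : n / d ∣ n := Nat.div_dvd_of_dvd hd1
        have h3 : (n / d).Coprime (p ^ a) := by
          refine Nat.Coprime.pow_right a ?_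
          rw [Nat.coprime_comm, hp.coprime_iff_not_dvd]
          exact fun h => hpn (h.trans h2)
        exact Nat.eq_one_of_dvd_coprimes h3 dvd_rfl hd2
      have hdn : d = n := by
        have := Nat.div_mul_cancel hd1
        rw [hnd, one_mul] at this
        exact this
      have hres := restrict_eq_of_degree π.ker (isIrr_isCharacter hχ) hψ hne (by
        rw [hχn, hψd, hdn])
      exact gallagher π hπ π.ker (fun k hk => hk) hχ (by rw [hres]; exact hψ) hχn hf

/-- The dichotomy for a finite group whose derived subgroup is not perfect. -/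
theorem cases_of_not_perfect_dvd {G : Type*} [Group G] [Finite G]
    (hG : ⁅commutator G, commutator G⁆ ≠ commutator G) :
    ∃ (p : ℕ) (f : ℕ), p.Prime ∧ 1 < f ∧
      (((∃ b, f = p ^ b) ∧ ∀ n ∈ charDegrees G, p ∣ n ∨ f * n ∈ charDegrees G) ∨
        (f.Coprime p ∧ ∃ N : Subgroup G, ∃ _ : N.Normal, N.index = f ∧
          ∃ m : ℕ, 0 < m ∧ f < p ^ m ∧ f ∣ p ^ m - 1 ∧
            ∀ (ψ : N → ℂ), IsIrrCharacter N ψ → ∀ d : ℕ, ψ 1 = d → p ^ m ∣ d ^ 2 ∨ f * d ∈ charDegrees G)) := by
  classical
  set D : Subgroup G := ⁅commutator G, commutator G⁆ with hD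
  have hDn : D.Normal := inferInstance
  have hπ := QuotientGroup.mk'_surjective D
  have hmap : commutator (G ⧸ D) = (commutator G).map (QuotientGroup.mk' D) := by
    rw [commutator_def, commutator_def, Subgroup.map_commutator,
      Subgroup.map_top_of_surjective _ hπ]
  have hne : commutator (G ⧸ D) ≠ ⊥ := by
    intro h
    rw [hmap, Subgroup.map_eq_bot_iff, QuotientGroup.ker_mk'] at h
    exact hG (le_antisymm (Subgroup.commutator_le_left _ _) h)
  have hsol : Group.IsSolvable (G ⧸ D) := by
    refine ⟨2, ?_⟩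
    have h1 : derivedSeries (G ⧸ D) 1 = commutator (G ⧸ D) := derivedSeries_one _
    rw [derivedSeries_succ, h1, hmap, ← Subgroup.map_commutator, Subgroup.map_eq_bot_iff,
      QuotientGroup.ker_mk']
  obtain ⟨K, hKn, h1, hmin⟩ := MinNonab.exists_quotient hne
  have hsolK : Group.IsSolvable ((G ⧸ D) ⧸ K) :=
    Group.isSolvable_of_surjective (QuotientGroup.mk'_surjective K)
  exact cases_of_surj_dvd ((QuotientGroup.mk' K).comp (QuotientGroup.mk' D))
    ((QuotientGroup.mk'_surjective K).comp hπ) h1 hmin



end Cfsg.Agent.H810.S8
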