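import Cfsg.Agent.H810.S8.Eng

/-!
# S4908, SOLV: the numerical check for Th (helper810)
-/

set_option autoImplicit false
set_option maxRecDepth 1000000

namespace Cfsg.Agent.H810.S8.Th

open Cfsg.Agent.H511.Ore Cfsg.Agent.H653.Sieve Cfsg.Agent.H651.Two

def cd : List CD :=
  [⟨31, 1, 15, 2, [(0, 0), (1, 2), (15, -1), (16, 1), (30, -2)], 2, true⟩,
   ⟨19, 1, 18, 1, [(0, 0), (1, 1), (18, -1)], 0, false⟩,
   ⟨13, 3, 12, 1, [(0, 0), (1, 1), (12, -1), (2, 2), (11, -2)], 0, false⟩]

def fac : List (ℕ × ℕ) := [(31, 1), (19, 1), (13, 1), (7, 2), (5, 3), (3, 10), (2, 15)]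

/-- the divisors of 28861000 -/
def l0 : List ℕ := [1, 2, 4, 5, 7, 8, 10, 14, 19, 20, 25, 28, 31, 35, 38, 40, 49, 50, 56, 62, 70, 76, 95, 98, 100, 124, 125, 133, 140, 152, 155, 175, 190, 196, 200, 217, 245, 248, 250, 266, 280, 310, 350, 380, 392, 434, 475, 490, 500, 532, 589, 620, 665, 700, 760, 775, 868, 875, 931, 950, 980, 1000, 1064, 1085, 1178, 1225, 1240, 1330, 1400, 1519, 1550, 1736, 1750, 1862, 1900, 1960, 2170, 2356, 2375, 2450, 2660, 2945, 3038, 3100, 3325, 3500, 3724, 3800, 3875, 4123, 4340, 4655, 4712, 4750, 4900, 5320, 5425, 5890, 6076, 6125, 6200, 6650, 7000, 7448, 7595, 7750, 8246, 8680, 9310, 9500, 9800, 10850, 11780, 12152, 12250, 13300, 14725, 15190, 15500, 16492, 16625, 18620, 19000, 20615, 21700, 23275, 23560, 24500, 26600, 27125, 28861, 29450, 30380, 31000, 32984, 33250, 37240, 37975, 41230, 43400, 46550, 49000, 54250, 57722, 58900, 60760, 66500, 73625, 75950, 82460, 93100, 103075, 108500, 115444, 116375, 117800, 133000, 144305, 147250, 151900,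 164920, 186200, 189875, 206150, 217000, 230888, 232750, 288610, 294500, 303800, 379750, 412300, 465500, 515375, 577220, 589000, 721525, 759500, 824600, 931000, 1030750, 1154440, 1443050, 1519000, 2061500, 2886100, 3607625, 4123000, 5772200, 7215250, 14430500, 28861000]

theorem mem0 : ∀ t, t ∣ 28861000 → t ∈ l0 := by
  refine mem_of_dvd_of_chk (L := [(31, 1), (19, 1), (7, 2), (5, 3), (2, 3)]) ?_ ?_ ?_
  · simp only [List.all_cons, List.all_nil, Bool.and_true]; norm_num
  · decide +kernel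
  · decide +kernel

/-- the divisors of 4881384 -/
def l1 : List ℕ := [1, 2, 3, 4, 6, 8, 9, 12, 18, 24, 27, 31, 36, 54, 62, 72, 81, 93, 108, 124, 162, 186, 216, 243, 248, 279, 324, 372, 486, 558, 648, 729, 744, 837, 972, 1116, 1458, 1674, 1944, 2187, 2232, 2511, 2916, 3348, 4374, 5022, 5832, 6561, 6696, 7533, 8748, 10044, 13122, 15066, 17496, 19683, 20088, 22599, 26244, 30132, 39366, 45198, 52488, 60264, 67797, 78732, 90396, 135594, 157464, 180792, 203391, 271188, 406782, 542376, 610173, 813564, 1220346, 1627128, 2440692, 4881384]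

theorem mem1 : ∀ t, t ∣ 4881384 → t ∈ l1 := by
  refine mem_of_dvd_of_chk (L := [(31, 1), (3, 9), (2, 3)]) ?_ ?_ ?_
  · simp only [List.all_cons, List.all_nil, Bool.and_true]; norm_num
  · decide +kernel
  · decide +kernel

/-- the divisors of 4123 -/
def l2 : List ℕ := [1, 7, 19, 31, 133, 217, 589, 4123]

theorem mem2 : ∀ t, t ∣ 4123 → t ∈ l2 := by
  refine mem_of_dvd_of_chk (L := [(31, 1), (19, 1), (7, 1)]) ?_ ?_ ?_
  · simp only [List.all_cons, List.all_nil, Bool.and_true]; norm_num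
  · decide +kernel
  · decide +kernel

def W : List (ℕ × List ℕ) := [(28861000, l0), (4881384, l1), (4123, l2)]

theorem chk : allDiv 90745943887872000 (tstB 90745943887872000 [] cd (fac.map Prod.fst) W) fac 1 = true := by decide +kernel

end Cfsg.Agent.H810.S8.Th
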